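import Mathlib

/-!
# Morphisms `Q[0] ⟶ F[1]` come from short exact sequences; blended extensions
-/

set_option autoImplicit false
set_option backward.isDefEq.respectTransparency false

universe w' v' v w

open CategoryTheory CategoryTheory.Limits CategoryTheory.Pretriangulated DerivedCategory Abelian

namespace Groth.Agent.Blended

variable {C : Type w} [Category.{v} C] [Abelian C] [HasDerivedCategory.{w'} C]

local notation "S₀" => DerivedCategory.singleFunctor C 0

/-- every morphism `Q[0] ⟶ F[1]` is the connecting map of a short exact sequence -/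
theorem exists_ses_of_hom {F Q : C} (δ : (S₀).obj Q ⟶ ((S₀).obj F)⟦(1 : ℤ)⟧) :
    ∃ (X : C) (i : F ⟶ X) (q : X ⟶ Q) (w : i ≫ q = 0), (ShortComplex.mk i q w).ShortExact ∧
      Triangle.mk ((S₀).map i) ((S₀).map q) δ ∈ distTriang (DerivedCategory C) := by
  obtain ⟨Z, f, g, hT⟩ := distinguished_cocone_triangle₂ δ
  haveI : Z.IsLE 0 := TStructure.t.isLE₂ _ hT 0
    (inferInstanceAs (((S₀).obj F).IsLE 0)) (inferInstanceAs (((S₀).obj Q).IsLE 0))
  haveI : Z.IsGE 0 := TStructure.t.isGE₂ _ hT 0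
    (inferInstanceAs (((S₀).obj F).IsGE 0)) (inferInstanceAs (((S₀).obj Q).IsGE 0))
  obtain ⟨X, ⟨e⟩⟩ := Z.exists_iso_singleFunctor_obj_of_isGE_of_isLE 0
  obtain ⟨i, hi⟩ := (S₀).map_surjective (f ≫ e.hom)
  obtain ⟨q, hq⟩ := (S₀).map_surjective (e.inv ≫ g)
  have hT' : Triangle.mk ((S₀).map i) ((S₀).map q) δ ∈ distTriang (DerivedCategory C) :=
    isomorphic_distinguished _ hT _ (Triangle.isoMk _ _ (Iso.refl _) e.symm (Iso.refl _)
      (show (S₀).map i ≫ e.inv = 𝟙 _ ≫ f by
        rw [hi, Category.assoc, Iso.hom_inv_id, Category.comp_id, Category.id_comp])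
      (show (S₀).map q ≫ 𝟙 _ = e.inv ≫ g by rw [hq, Category.comp_id])
      (show δ ≫ (shiftFunctor (DerivedCategory C) (1 : ℤ)).map (𝟙 _) = 𝟙 _ ≫ δ by
        rw [CategoryTheory.Functor.map_id, Category.comp_id, Category.id_comp]))
  have w : i ≫ q = 0 := (S₀).map_injective (by
    rw [Functor.map_comp, Functor.map_zero]; exact comp_distTriang_mor_zero₁₂ _ hT')
  refine ⟨X, i, q, w, ?_, hT'⟩
  have he := HomologySequence.exact₂ _ hT' (0 : ℤ)
  have hm : Mono ((homologyFunctor C 0).map ((S₀).map i)) :=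
    (HomologySequence.mono_homologyMap_mor₁_iff _ hT' (-1 : ℤ) 0 (by omega)).2
      ((isZero_of_isGE ((S₀).obj Q) 0 (-1) (by omega)).eq_of_src _ _)
  have hp : Epi ((homologyFunctor C 0).map ((S₀).map q)) :=
    (HomologySequence.epi_homologyMap_mor₂_iff _ hT' (0 : ℤ) 1 (by omega)).2
      ((isZero_of_isLE ((S₀).obj F) 0 1 (by omega)).eq_of_tgt _ _)
  exact ShortComplex.shortExact_of_iso
    (ShortComplex.isoMk ((singleFunctorCompHomologyFunctorIso C 0).app F)
      ((singleFunctorCompHomologyFunctorIso C 0).app X) ((singleFunctorCompHomologyFunctorIso C 0).app Q)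
      ((singleFunctorCompHomologyFunctorIso C 0).hom.naturality i).symm
      ((singleFunctorCompHomologyFunctorIso C 0).hom.naturality q).symm)
    (ShortComplex.ShortExact.mk' he hm hp)

/-- a blended extension exists when the composite of the connecting maps vanishes -/
theorem exists_blended {P F R E Q : C} (a : P ⟶ F) (b : F ⟶ R) (wF : a ≫ b = 0)
    (hF : (ShortComplex.mk a b wF).ShortExact) (c : R ⟶ E) (d : E ⟶ Q) (wE : c ≫ d = 0)
    (hE : (ShortComplex.mk c d wE).ShortExact)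
    (h : hE.singleδ ≫ hF.singleδ⟦(1 : ℤ)⟧' = 0) :
    ∃ (X : C) (i : F ⟶ X) (p : X ⟶ E), i ≫ p = b ≫ c ∧
        (∃ w : (a ≫ i) ≫ p = 0, (ShortComplex.mk (a ≫ i) p w).ShortExact) ∧
        (∃ w : i ≫ (p ≫ d) = 0, (ShortComplex.mk i (p ≫ d) w).ShortExact) := by
  have hr := rot_of_distTriang _ (rot_of_distTriang _ (rot_of_distTriang _ hF.singleTriangle_distinguished))
  obtain ⟨g, hg⟩ := Triangle.coyoneda_exact₃ _ hr hE.singleδ (by
    show hE.singleδ ≫ (-hF.singleδ⟦(1 : ℤ)⟧') = 0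
    rw [Preadditive.comp_neg, h, neg_zero])
  obtain ⟨X, i, q, w, hX, hT⟩ := exists_ses_of_hom (-g)
  have hg' : hE.singleδ = g ≫ (-(((S₀).map b)⟦(1 : ℤ)⟧')) := hg
  have hb : (-g) ≫ ((S₀).map b)⟦(1 : ℤ)⟧' = 𝟙 _ ≫ hE.singleδ := by
    rw [Category.id_comp, hg', Preadditive.neg_comp, Preadditive.comp_neg]
  obtain ⟨m, hm₁, hm₂⟩ := complete_distinguished_triangle_morphism₂ _ _ hT hE.singleTriangle_distinguished
    ((S₀).map b) (𝟙 _) hb
  obtain ⟨p, rfl⟩ := (S₀).map_surjective m
  have h₁ : i ≫ p = b ≫ c := (S₀).map_injective (by rw [Functor.map_comp, Functor.map_comp]; exact hm₁)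
  have h₂ : p ≫ d = q := (S₀).map_injective (by
    rw [Functor.map_comp]
    exact (hm₂.symm.trans (Category.comp_id _)))
  subst h₂
  haveI : Mono a := hF.mono_f
  haveI : Epi b := hF.epi_g
  haveI : Mono c := hE.mono_f
  haveI := hE.epi_g
  haveI : Mono i := hX.mono_f
  haveI : Epi (p ≫ d) := hX.epi_g
  haveI : Epi p := Preadditive.epi_of_cancel_zero p fun {T} t ht => by
    have hc : c ≫ t = 0 := by
      rw [← cancel_epi b, comp_zero, ← Category.assoc, ← h₁, Category.assoc, ht, comp_zero]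
    obtain ⟨t', rfl⟩ := hE.exact.desc' t hc
    have : t' = 0 := by
      rw [← cancel_epi (p ≫ d), comp_zero, Category.assoc]
      exact ht
    rw [this, comp_zero]
  refine ⟨X, i, p, h₁, ⟨by rw [Category.assoc, h₁, reassoc_of% wF, zero_comp], ?_⟩, w, hX⟩
  refine ShortComplex.ShortExact.mk' ?_ (mono_comp a i) inferInstance
  refine (ShortComplex.exact_iff_exact_up_to_refinements _).2 fun T k (hk : k ≫ p = 0) => ?_
  obtain ⟨l, hl⟩ := hX.exact.lift' k (by rw [← Category.assoc, hk, zero_comp])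
  change l ≫ i = k at hl
  obtain ⟨l', hl'⟩ := hF.exact.lift' l (by
    show l ≫ b = 0
    rw [← cancel_mono c, zero_comp, Category.assoc, ← h₁, ← Category.assoc, hl, hk])
  change l' ≫ a = l at hl'
  exact ⟨T, 𝟙 T, inferInstance, l',
    show 𝟙 T ≫ k = l' ≫ (a ≫ i) from
    (Category.id_comp k).trans (hl.symm.trans ((congrArg (· ≫ i) hl'.symm).trans (Category.assoc _ _ _)))⟩

end Groth.Agent.Blended
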