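import Mathlib

/-!
# Chains of morphisms killing the lower cohomology factor through the top cohomology
-/

set_option autoImplicit false
set_option backward.isDefEq.respectTransparency false

universe w v u

open CategoryTheory CategoryTheory.Limits CategoryTheory.Pretriangulated DerivedCategory
open scoped CategoryTheory

namespace Groth.Agent.Blended

variable {A : Type u} [Category.{v} A] [Abelian A] [HasDerivedCategory.{w} A]

local notation "tt" => (DerivedCategory.TStructure.t (C := A))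

theorem isZero_of_heart {X Y : DerivedCategory A} (n : ℤ) [X.IsGE n] [X.IsLE n] [Y.IsGE n] [Y.IsLE n]
    (f : X ⟶ Y) (h : (homologyFunctor A n).map f = 0) : f = 0 := by
  obtain ⟨M, ⟨e⟩⟩ := X.exists_iso_singleFunctor_obj_of_isGE_of_isLE n
  obtain ⟨N, ⟨e'⟩⟩ := Y.exists_iso_singleFunctor_obj_of_isGE_of_isLE n
  obtain ⟨m, hm⟩ := (singleFunctor A n).map_surjective (e.inv ≫ f ≫ e'.hom)
  have h' : (homologyFunctor A n).map ((singleFunctor A n).map m) = 0 := by
    rw [hm, Functor.map_comp, Functor.map_comp, h, zero_comp, comp_zero]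
  have nat := (singleFunctorCompHomologyFunctorIso A n).hom.naturality m
  dsimp at nat
  rw [h', zero_comp] at nat
  have hm0 : m = 0 := (cancel_epi _).1 (nat.symm.trans comp_zero.symm)
  rw [← cancel_epi e.inv, ← cancel_mono e'.hom, Category.assoc, ← hm, hm0, Functor.map_zero, comp_zero, zero_comp]

theorem isIso_of_heart {X Y : DerivedCategory A} (n : ℤ) [X.IsGE n] [X.IsLE n] [Y.IsGE n] [Y.IsLE n]
    (f : X ⟶ Y) (h : IsIso ((homologyFunctor A n).map f)) : IsIso f := by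
  obtain ⟨M, ⟨e⟩⟩ := X.exists_iso_singleFunctor_obj_of_isGE_of_isLE n
  obtain ⟨N, ⟨e'⟩⟩ := Y.exists_iso_singleFunctor_obj_of_isGE_of_isLE n
  obtain ⟨m, hm⟩ := (singleFunctor A n).map_surjective (e.inv ≫ f ≫ e'.hom)
  haveI : IsIso ((homologyFunctor A n).map ((singleFunctor A n).map m)) := by
    rw [hm, Functor.map_comp, Functor.map_comp]
    infer_instance
  haveI : IsIso m := (NatIso.isIso_map_iff (singleFunctorCompHomologyFunctorIso A n) m).1
    (by dsimp; infer_instance)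
  have hf : f = e.hom ≫ (singleFunctor A n).map m ≫ e'.inv := by
    rw [hm, Category.assoc, Category.assoc, Iso.hom_inv_id, Category.comp_id, Iso.hom_inv_id_assoc]
  rw [hf]
  infer_instance

/-- the canonical triangle of an object bounded above -/
theorem exists_top (X : DerivedCategory A) (p : ℤ) [X.IsLE p] :
    ∃ (C B : DerivedCategory A) (f : C ⟶ X) (g : X ⟶ B) (h : B ⟶ C⟦(1 : ℤ)⟧),
      Triangle.mk f g h ∈ distTriang (DerivedCategory A) ∧ C.IsLE (p - 1) ∧ B.IsGE p ∧ B.IsLE p ∧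
        Epi ((homologyFunctor A p).map g) := by
  obtain ⟨C, B, hC, hB, f, g, h, hT⟩ := (tt).exists_triangle X (p - 1) p (by omega)
  haveI : C.IsLE (p - 1) := ⟨hC⟩
  refine ⟨C, B, f, g, h, hT, ‹_›, ⟨hB⟩, ?_, ?_⟩
  · haveI := (tt).isLE_shift C (p - 1) 1 (p - 2) (by omega)
    haveI := (tt).isLE_of_le (C⟦(1 : ℤ)⟧) (p - 2) p (by omega)
    exact (tt).isLE₂ _ (rot_of_distTriang _ hT) p (inferInstanceAs (X.IsLE p))
      (inferInstanceAs ((tt).IsLE (C⟦(1 : ℤ)⟧) p))
  · exact (HomologySequence.epi_homologyMap_mor₂_iff _ hT p (p + 1) rfl).2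
      ((isZero_of_isLE C (p - 1) (p + 1) (by omega)).eq_of_tgt _ _)

theorem zero_of_homology {X Z : DerivedCategory A} (p : ℤ) [X.IsLE p] [Z.IsGE p] (h : X ⟶ Z)
    (hh : (homologyFunctor A p).map h = 0) : h = 0 := by
  obtain ⟨C, B, f, g, δ, hT, hC, hBge, hBle, hg⟩ := exists_top X p
  obtain ⟨h', rfl⟩ : ∃ h', h = g ≫ h' :=
    Triangle.yoneda_exact₂ _ hT h ((tt).zero (f ≫ h) (p - 1) p (by omega))
  obtain ⟨A', B', hA, hB', f', g', δ', hT'⟩ := (tt).exists_triangle Z p (p + 1) rfl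
  haveI : A'.IsLE p := ⟨hA⟩
  haveI : B'.IsGE (p + 1) := ⟨hB'⟩
  obtain ⟨h'', rfl⟩ : ∃ h'', h' = h'' ≫ f' :=
    Triangle.coyoneda_exact₂ _ hT' h' ((tt).zero (h' ≫ g') p (p + 1) (by omega))
  haveI : A'.IsGE p := by
    haveI := (tt).isGE_shift B' (p + 1) (-1) (p + 2) (by omega)
    haveI := (tt).isGE_of_ge (B'⟦(-1 : ℤ)⟧) p (p + 2) (by omega)
    exact (tt).isGE₂ _ (inv_rot_of_distTriang _ hT') p (inferInstanceAs ((tt).IsGE (B'⟦(-1 : ℤ)⟧) p))
      (inferInstanceAs (Z.IsGE p))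
  haveI : Mono ((homologyFunctor A p).map f') :=
    (HomologySequence.mono_homologyMap_mor₁_iff _ hT' (p - 1) p (by omega)).2
      ((isZero_of_isGE B' (p + 1) (p - 1) (by omega)).eq_of_src _ _)
  rw [Functor.map_comp, Functor.map_comp] at hh
  have h0 : h'' = 0 := isZero_of_heart p h''
    ((cancel_mono ((homologyFunctor A p).map f')).1 (((cancel_epi ((homologyFunctor A p).map g)).1
      (hh.trans comp_zero.symm)).trans zero_comp.symm))
  rw [h0, zero_comp, comp_zero]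

theorem exists_factor {X Y : DerivedCategory A} (p : ℤ) [X.IsLE p] (g : X ⟶ Y)
    (hg : (homologyFunctor A p).map g = 0) :
    ∃ (X' : DerivedCategory A) (a : X ⟶ X') (b : X' ⟶ Y), X'.IsLE (p - 1) ∧ g = a ≫ b := by
  obtain ⟨C, B, hC, hB, f, π, h, hT⟩ := (tt).exists_triangle Y (p - 1) p (by omega)
  haveI : B.IsGE p := ⟨hB⟩
  obtain ⟨a, ha⟩ : ∃ a, g = a ≫ f := Triangle.coyoneda_exact₂ _ hT g
    (zero_of_homology p (g ≫ π) (by rw [Functor.map_comp, hg, zero_comp]))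
  exact ⟨C, a, f, ⟨hC⟩, ha⟩

theorem exists_factor_top (k : ℕ) (n : ℕ) (hn : k ≤ n) (K : ComposableArrows (DerivedCategory A) n)
    (hK : ∀ (i : ℕ) (hi : i ≤ n) (p : ℤ), p < 0 ∨ (k : ℤ) < p →
      IsZero ((homologyFunctor A p).obj (K.obj' i)))
    (hf : ∀ (i : ℕ) (hi : i < n) (p : ℤ), p < (k : ℤ) →
      (homologyFunctor A p).map (K.map' i (i + 1)) = 0)
    (π : K.obj' 0 ⟶ (singleFunctor A (k : ℤ)).obj ((homologyFunctor A (k : ℤ)).obj (K.obj' 0)))
    (hπ : (homologyFunctor A (k : ℤ)).map π ≫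
      (singleFunctorCompHomologyFunctorIso A (k : ℤ)).hom.app
        ((homologyFunctor A (k : ℤ)).obj (K.obj' 0)) = 𝟙 _) :
    ∃ φ, K.map' 0 n = π ≫ φ := by
  have hle : ∀ (i : ℕ) (hi : i ≤ n), (K.obj' i).IsLE k := fun i hi =>
    (isLE_iff _ _).2 fun p hp => hK i hi p (Or.inr hp)
  have hge : ∀ (i : ℕ) (hi : i ≤ n), (K.obj' i).IsGE 0 := fun i hi =>
    (isGE_iff _ _).2 fun p hp => hK i hi p (Or.inl hp)
  haveI := hle 0 (by omega)
  obtain ⟨C, B, f, g, δ, hT, hC, hBge, hBle, hg⟩ := exists_top (K.obj' 0 (Nat.zero_le n)) (k : ℤ)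
  have step : ∀ (j : ℕ) (hj : j ≤ k), ∃ (X : DerivedCategory A) (a : C ⟶ X) (b : X ⟶ K.obj' j (by omega)),
      X.IsLE ((k : ℤ) - 1 - j) ∧ f ≫ K.map' 0 j (by omega) (by omega) = a ≫ b := by
    intro j
    induction j with
    | zero => exact fun _ => ⟨C, 𝟙 C, f, by simpa using hC, by simp⟩
    | succ j ih =>
      intro hj
      obtain ⟨X, a, b, hX, hab⟩ := ih (by omega)
      obtain ⟨X', a', b', hX', hab'⟩ := exists_factor ((k : ℤ) - 1 - j) (b ≫ K.map' j (j + 1))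
        (by rw [Functor.map_comp, hf j (by omega) _ (by omega), comp_zero])
      refine ⟨X', a ≫ a', b', ?_, ?_⟩
      · rwa [show (k : ℤ) - 1 - ((j + 1 : ℕ) : ℤ) = (k : ℤ) - 1 - j - 1 by omega]
      · rw [K.map'_comp 0 j (j + 1), reassoc_of% hab, Category.assoc, hab']
  obtain ⟨X, a, b, hX, hab⟩ := step k le_rfl
  have hb : b = 0 := by
    haveI := hX
    haveI := hge k hn
    exact (tt).zero b ((k : ℤ) - 1 - k) 0 (by omega)
  obtain ⟨φ', hφ'⟩ : ∃ φ', K.map' 0 n = g ≫ φ' := Triangle.yoneda_exact₂ _ hT (K.map' 0 n) (by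
    show f ≫ K.map' 0 n = 0
    rw [K.map'_comp 0 k n, reassoc_of% hab, hb, zero_comp, comp_zero])
  obtain ⟨θ, hθ⟩ : ∃ θ, π = g ≫ θ := Triangle.yoneda_exact₂ _ hT π ((tt).zero (f ≫ π) ((k : ℤ) - 1) k (by omega))
  haveI : IsIso ((homologyFunctor A (k : ℤ)).map π) := IsIso.of_isIso_fac_right hπ
  haveI hi : IsIso ((homologyFunctor A (k : ℤ)).map g ≫ (homologyFunctor A (k : ℤ)).map θ) := by
    rw [← Functor.map_comp, ← hθ]
    infer_instance
  haveI : Mono ((homologyFunctor A (k : ℤ)).map g) := mono_of_mono _ ((homologyFunctor A (k : ℤ)).map θ)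
  haveI : IsIso ((homologyFunctor A (k : ℤ)).map g) := isIso_of_mono_of_epi _
  haveI : IsIso θ := isIso_of_heart (k : ℤ) θ (IsIso.of_isIso_comp_left ((homologyFunctor A (k : ℤ)).map g) _)
  exact ⟨inv θ ≫ φ', by rw [hφ', hθ, Category.assoc, IsIso.hom_inv_id_assoc]⟩

end Groth.Agent.Blended
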