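import Mathlib

/-!
# An indecomposable injective object of a Grothendieck abelian category is uniform
-/

set_option autoImplicit false

universe w v u

open CategoryTheory CategoryTheory.Limits

namespace Groth.Agent.Blended

variable {C : Type u} [Category.{v} C] [Abelian C] [IsGrothendieckAbelian.{w} C]

attribute [local instance] IsFiltered.isConnected

theorem exists_max_subobject {E Q : C} (π : E ⟶ Q) (A₀ : Subobject E) (h₀ : Mono (A₀.arrow ≫ π)) :
    ∃ A, A₀ ≤ A ∧ Mono (A.arrow ≫ π) ∧ ∀ B, A ≤ B → Mono (B.arrow ≫ π) → B = A := by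
  obtain ⟨A, h, hA⟩ := zorn_le_nonempty₀ {A : Subobject E | Mono (A.arrow ≫ π)} (fun c hc hch y hy => by
    let e := (equivShrink.{w} ↥c).symm
    let _ : Preorder (Shrink.{w} ↥c) := Preorder.lift e
    letI : SmallCategory.{w} (Shrink.{w} ↥c) := Preorder.smallCategory _
    have : Nonempty (Shrink.{w} ↥c) := ⟨e.symm ⟨y, hy⟩⟩
    have : IsDirectedOrder (Shrink.{w} ↥c) := ⟨fun a b => by
      rcases hch.total (e a).2 (e b).2 with h | h
      · exact ⟨b, h, le_refl (e b)⟩
      · exact ⟨a, le_refl (e a), h⟩⟩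
    have hm : Monotone fun j : Shrink.{w} ↥c => ((e j).1 : Subobject E) := fun a b h => h
    let G : Shrink.{w} ↥c ⥤ C :=
      { obj := fun j => Subobject.underlying.obj (e j).1
        map := fun g => Subobject.ofLE _ _ (hm (leOfHom g))
        map_id := fun j => Subobject.ofLE_refl _
        map_comp := fun g g' => (Subobject.ofLE_comp_ofLE _ _ _ _ _).symm }
    let α : G ⟶ (Functor.const _).obj Q :=
      { app := fun j => ((e j).1).arrow ≫ π
        naturality := fun i j g => by
          dsimp [G]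
          rw [Category.comp_id, ← Category.assoc, Subobject.ofLE_arrow] }
    haveI : ∀ j, Mono (α.app j) := fun j => hc (e j).2
    haveI := NatTrans.mono_of_mono_app α
    let β : G ⟶ (Functor.const _).obj E :=
      { app := fun j => ((e j).1).arrow
        naturality := fun i j g => by
          dsimp [G]
          rw [Category.comp_id, Subobject.ofLE_arrow] }
    let f := colimit.desc G (Cocone.mk E β)
    haveI hf : Mono (f ≫ π) := colim.map_mono' α (colimit.isColimit G) (isColimitConstCocone _ Q) (f ≫ π)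
      (fun j => by simp [f, α, β]; exact congrArg _ (Category.comp_id π).symm)
    haveI : Mono f := mono_of_mono f π
    refine ⟨Subobject.mk f, ?_, fun z hz => ?_⟩
    · show Mono ((Subobject.mk f).arrow ≫ π)
      rw [← Subobject.underlyingIso_hom_comp_eq_mk, Category.assoc]
      infer_instance
    · obtain ⟨j, hj⟩ := e.surjective ⟨z, hz⟩
      have hj' : ((e j).1 : Subobject E) = z := congrArg Subtype.val hj
      subst hj'
      exact Subobject.le_mk_of_comm (colimit.ι G j) (by simp [f, β])) A₀ h₀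
  exact ⟨A, h, hA.1, fun B hB hB' => le_antisymm (hA.2 hB' hB) hB⟩

omit [IsGrothendieckAbelian.{w} C] in
theorem mono_comm {E A B : C} (a : A ⟶ E) (b : B ⟶ E) [Mono a] [Mono b] (h : Mono (a ≫ cokernel.π b)) :
    Mono (b ≫ cokernel.π a) :=
  Preadditive.mono_of_cancel_zero _ fun t ht => by
    obtain ⟨u, hu⟩ : ∃ u, u ≫ a = t ≫ b :=
      ⟨Abelian.monoLift a (t ≫ b) (by rw [Category.assoc, ht]), Abelian.monoLift_comp a _ _⟩
    have hu0 : u = 0 := by
      rw [← cancel_mono (a ≫ cokernel.π b), ← Category.assoc, hu, Category.assoc, cokernel.condition,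
        comp_zero, zero_comp]
    rw [← cancel_mono b, zero_comp, ← hu, hu0, zero_comp]

/-- two nonzero subobjects of an indecomposable injective object meet -/
theorem not_mono_cokernel {E A B : C} [Injective E]
    (hind : ∀ (A B : C), Nonempty (E ≅ A ⊞ B) → IsZero A ∨ IsZero B)
    (a : A ⟶ E) (b : B ⟶ E) [Mono a] [Mono b] (ha : a ≠ 0) (hb : b ≠ 0) : ¬ Mono (a ≫ cokernel.π b) := by
  intro h
  have h₀ : Mono ((Subobject.mk b).arrow ≫ cokernel.π a) := by
    rw [← Subobject.underlyingIso_hom_comp_eq_mk, Category.assoc]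
    haveI := mono_comm a b h
    infer_instance
  obtain ⟨B', hBB', hB', hBmax⟩ := exists_max_subobject (cokernel.π a) _ h₀
  have h₁ : Mono ((Subobject.mk a).arrow ≫ cokernel.π B'.arrow) := by
    rw [← Subobject.underlyingIso_hom_comp_eq_mk, Category.assoc]
    haveI := mono_comm B'.arrow a hB'
    infer_instance
  obtain ⟨A', hAA', hA', hAmax⟩ := exists_max_subobject (cokernel.π B'.arrow) _ h₁
  have key : ∀ {T : C} (g : cokernel B'.arrow ⟶ T), Mono ((A'.arrow ≫ cokernel.π B'.arrow) ≫ g) → Mono g := by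
    intro T g hg
    have hfac : Subobject.ofMkLE a A' hAA' ≫ A'.arrow = a := Subobject.ofMkLE_arrow hAA'
    have hK : Mono ((Subobject.mk (kernel.ι (cokernel.π B'.arrow ≫ g))).arrow ≫ cokernel.π a) := by
      rw [← Subobject.underlyingIso_hom_comp_eq_mk, Category.assoc]
      haveI : Mono (kernel.ι (cokernel.π B'.arrow ≫ g) ≫ cokernel.π a) :=
        Preadditive.mono_of_cancel_zero _ fun t ht => by
          obtain ⟨u, hu⟩ : ∃ u, u ≫ a = t ≫ kernel.ι (cokernel.π B'.arrow ≫ g) :=
            ⟨Abelian.monoLift a _ (by rw [Category.assoc, ht]), Abelian.monoLift_comp a _ _⟩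
          haveI : Mono (Subobject.ofMkLE a A' hAA') := mono_of_mono_fac hfac
          have hu0 : u = 0 := by
            rw [← cancel_mono (Subobject.ofMkLE a A' hAA'), zero_comp,
              ← cancel_mono ((A'.arrow ≫ cokernel.π B'.arrow) ≫ g), zero_comp]
            simp only [Category.assoc]
            rw [reassoc_of% hfac, reassoc_of% hu, kernel.condition, comp_zero]
          rw [← cancel_mono (kernel.ι (cokernel.π B'.arrow ≫ g)), zero_comp, ← hu, hu0, zero_comp]
      infer_instance
    have hle : B' ≤ Subobject.mk (kernel.ι (cokernel.π B'.arrow ≫ g)) :=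
      Subobject.le_mk_of_comm (kernel.lift _ B'.arrow (by rw [cokernel.condition_assoc, zero_comp]))
        (kernel.lift_ι _ _ _)
    have heq := hBmax _ hle hK
    have h0 : kernel.ι (cokernel.π B'.arrow ≫ g) ≫ cokernel.π B'.arrow = 0 := by
      rw [← Subobject.ofMkLE_arrow heq.le, Category.assoc, cokernel.condition, comp_zero]
    refine Preadditive.mono_of_cancel_zero _ fun {R} t ht => ?_
    obtain ⟨R', p, hp, x, hx⟩ := surjective_up_to_refinements_of_epi (cokernel.π B'.arrow) t
    rw [← cancel_epi p, comp_zero, hx,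
      ← kernel.lift_ι (cokernel.π B'.arrow ≫ g) x (by rw [← Category.assoc, ← hx, Category.assoc, ht, comp_zero]),
      Category.assoc, h0, comp_zero]
  obtain ⟨g, hg⟩ : ∃ g, (A'.arrow ≫ cokernel.π B'.arrow) ≫ g = A'.arrow :=
    ⟨Injective.factorThru A'.arrow (A'.arrow ≫ cokernel.π B'.arrow), Injective.comp_factorThru _ _⟩
  haveI : Mono g := key g (by rw [hg]; infer_instance)
  have hg' : Mono (g ≫ cokernel.π B'.arrow) := key _ (by rw [← Category.assoc, hg]; exact hA')
  have hH : Mono ((Subobject.mk g).arrow ≫ cokernel.π B'.arrow) := by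
    rw [← Subobject.underlyingIso_hom_comp_eq_mk, Category.assoc]
    infer_instance
  have heq := hAmax _ (Subobject.le_mk_of_comm (A'.arrow ≫ cokernel.π B'.arrow) hg) hH
  obtain ⟨r, hr⟩ : ∃ r, r ≫ A'.arrow = g := ⟨_, Subobject.ofMkLE_arrow heq.le⟩
  obtain ⟨ρ, hρ⟩ : ∃ ρ, ρ = cokernel.π B'.arrow ≫ r := ⟨_, rfl⟩
  have hs : A'.arrow ≫ ρ = 𝟙 _ := by
    rw [← cancel_mono A'.arrow, Category.id_comp, hρ, Category.assoc, Category.assoc, hr, ← Category.assoc, hg]
  let S := ShortComplex.mk (kernel.ι ρ) ρ (kernel.condition ρ)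
  have hS : S.Exact := S.exact_of_f_is_kernel (kernelIsKernel ρ)
  let sp : S.Splitting := ShortComplex.Splitting.ofExactOfSection S hS A'.arrow hs
    (inferInstanceAs (Mono (kernel.ι ρ)))
  rcases hind _ _ ⟨sp.isoBinaryBiproduct⟩ with h' | h'
  · haveI : Mono ρ := Preadditive.mono_of_cancel_zero _ fun t ht => by
      rw [← kernel.lift_ι ρ t ht, h'.eq_of_tgt (kernel.lift ρ t ht) 0, zero_comp]
    haveI : Mono (cokernel.π B'.arrow) := mono_of_mono_fac hρ.symm
    have h0 : B'.arrow = 0 := by rw [← cancel_mono (cokernel.π B'.arrow), cokernel.condition, zero_comp]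
    exact hb (by rw [← Subobject.ofMkLE_arrow hBB', h0, comp_zero])
  · exact ha (by rw [← Subobject.ofMkLE_arrow hAA', h'.eq_of_src A'.arrow 0, comp_zero])

end Groth.Agent.Blended
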